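import Cfsg.Agent.H60.E65.Weyl
import Cfsg.Agent.H77.Homocyclic.Sylow

/-!
Coordinates modulo a prime of the torsion elements of the diagonal subgroup, Frobenius twist.
-/
set_option autoImplicit false

namespace Cfsg.Agent.H60.E65

open Cfsg.Lie Matrix Cfsg.Agent.H77.Homocyclic
open Cfsg.Agent.H37 (KerCert)
open Cfsg.Agent.Chevalley (cor torus Valid dU)

variable {D : ChevalleyDatum} {K : Type*} [Field K] (Q : H37.Chev.Data D K)
variable {r : ℕ} (j : Multiplicative (ZMod r) →* Kˣ)

/-- The diagonal element with given coordinates modulo `r`. -/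
noncomputable def co (v : Fin D.rank → ZMod r) : GL D.Idx K :=
  torus D K fun i => j (Multiplicative.ofAdd (v i))

include Q in
theorem co_mem (v : Fin D.rank → ZMod r) : co (D := D) j v ∈ D.diagonalSubgroup K := by

  have C := Q.K
  rw [C.diagonalSubgroup_eq]
  exact ⟨_, rfl⟩

theorem co_zero : co (D := D) j 0 = 1 := by
  rw [show co (D := D) j 0 = torus D K (fun i => j (Multiplicative.ofAdd (0 : ZMod r))) from rfl]
  simp only [ofAdd_zero, map_one]
  exact map_one (torus D K)

theorem co_act (M : Matrix (Fin D.rank) (Fin D.rank) ℤ) (v : Fin D.rank → ZMod r) :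
    co j (M.map (Int.castRingHom (ZMod r)) *ᵥ v) =
      torus D K (act M fun i => j (Multiplicative.ofAdd (v i))) := by
  show torus D K _ = _
  congr 1
  funext i
  simp only [act, ← map_zpow, ← map_prod, ← ofAdd_zsmul, ← ofAdd_sum]
  congr 2
  simp [Matrix.mulVec, dotProduct, zsmul_eq_mul]

theorem co_natCast_smul (q : ℕ) (v : Fin D.rank → ZMod r) :
    co j ((q : ZMod r) • v) = torus D K ((fun i => j (Multiplicative.ofAdd (v i))) ^ q) := by
  show torus D K _ = _
  congr 1
  funext i
  rw [Pi.pow_apply, ← map_pow, ← ofAdd_nsmul, nsmul_eq_mul, Pi.smul_apply, smul_eq_mul]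

variable [hr : Fact r.Prime] {d₀ e₀ : ℕ} (Cker : KerCert (cartanMat D) d₀ e₀) (hrd : ¬ r ∣ d₀)
variable {j} (hj : Function.Injective j)

include Q Cker hrd hj in
theorem co_inj {v w : Fin D.rank → ZMod r} (h : co j v = co j w) : v = w := by
  have h' : torus D K (fun i => j (Multiplicative.ofAdd (v i - w i))) = 1 := by
    rw [show (fun i => j (Multiplicative.ofAdd (v i - w i))) =
      (fun i => j (Multiplicative.ofAdd (v i))) * (fun i => j (Multiplicative.ofAdd (w i)))⁻¹ from
      funext fun i => by simp [sub_eq_add_neg], map_mul, map_inv, mul_inv_eq_one]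
    exact h
  funext i
  have h1 := kerCert_kill Cker _ (torus_eq_one Q.K K h') i
  have h2 : j (Multiplicative.ofAdd (v i - w i)) ^ r = 1 := by
    rw [← map_pow, ← ofAdd_nsmul, ← map_one j]
    congr 1
    simp
  have h3 := pow_gcd_eq_one.2 ⟨h1, h2⟩
  rw [Nat.coprime_comm.1 ((Nat.Prime.coprime_iff_not_dvd hr.out).2 hrd), pow_one] at h3
  rw [← map_one j] at h3
  have := hj h3
  rw [ofAdd_eq_one, sub_eq_zero] at this
  exact this

include Q Cker hrd hj in
theorem exists_coord {Z : GL D.Idx K} (hZ : Z ∈ D.diagonalSubgroup K) (hr1 : Z ^ r = 1) :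
    ∃ v, co j v = Z := by
  rw [Q.K.diagonalSubgroup_eq] at hZ
  obtain ⟨t, ht⟩ := hZ
  set s := ((d₀ : ZMod r)⁻¹).val with hs
  have hds : ((d₀ * s : ℕ) : ZMod r) = 1 := by
    rw [Nat.cast_mul, hs, ZMod.natCast_zmod_val,
      mul_inv_cancel₀ (fun h => hrd ((ZMod.natCast_eq_zero_iff _ _).1 h))]
  have hmod : d₀ * s % r = 1 := by
    have h1 := congrArg ZMod.val hds
    rwa [ZMod.val_natCast, ZMod.val_one] at h1
  set t' := t ^ (d₀ * s) with ht'
  have h1 : torus D K t' = Z := by
    rw [ht', map_pow, ht, pow_eq_pow_mod _ hr1, hmod, pow_one]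
  have h2 : ∀ i, t' i ^ r = 1 := by
    intro i
    have hk : torus D K (t ^ r) = 1 := by rw [map_pow, ht, hr1]
    have := kerCert_kill Cker _ (torus_eq_one Q.K K hk) i
    rw [Pi.pow_apply] at this
    rw [ht', Pi.pow_apply, ← pow_mul, show d₀ * s * r = r * d₀ * s by ring, pow_mul, pow_mul,
      this, one_pow]
  have hz : IsPrimitiveRoot ((j (Multiplicative.ofAdd 1) : Kˣ) : K) r := by
    have : orderOf (Multiplicative.ofAdd (1 : ZMod r)) = r := by
      rw [orderOf_ofAdd_eq_addOrderOf, ZMod.addOrderOf_one]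
    rw [IsPrimitiveRoot.iff_orderOf, orderOf_units, orderOf_injective j hj]
    exact this
  choose w hw using fun i => hz.eq_pow_of_pow_eq_one (ξ := (t' i : K)) (by
    rw [← Units.val_pow_eq_pow_val, h2 i, Units.val_one])
  refine ⟨fun i => (w i : ZMod r), ?_⟩
  rw [← h1]
  show torus D K _ = _
  congr 1
  funext i
  refine Units.ext ?_
  rw [← (hw i).2, ← Units.val_pow_eq_pow_val, ← map_pow, ← ofAdd_nsmul, nsmul_one]

include Q Cker hrd hj in
/-- A fixed point of the Frobenius map conjugated into the diagonal subgroup has coordinates on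
which every normal form of the twisting element acts as multiplication by `q`. -/
theorem eigen_of_twist {q : ℕ} {σ : K →+* K} (hσ : ∀ x, σ x = x ^ q) {g : GL D.Idx K}
    {M : Matrix (Fin D.rank) (Fin D.rank) ℤ} {n : GL D.Idx K}
    (hact : ∀ c, n * torus D K c * n⁻¹ = torus D K (act M c))
    (hfus : ∀ h₁ ∈ D.diagonalSubgroup K, ∀ h₂ ∈ D.diagonalSubgroup K,
      g * h₁ * g⁻¹ = h₂ → n * h₁ * n⁻¹ = h₂)
    {v : Fin D.rank → ZMod r}
    (hv : g * co j v * g⁻¹ = Matrix.GeneralLinearGroup.map σ (co j v)) :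
    M.map (Int.castRingHom (ZMod r)) *ᵥ v = (q : ZMod r) • v := by
  refine co_inj Q Cker hrd hj ?_
  set f := fun i => j (Multiplicative.ofAdd (v i)) with hf
  have h2 : Matrix.GeneralLinearGroup.map σ (co j v) = torus D K (f ^ q) := by
    rw [show co j v = torus D K f from rfl, map_torus]
    congr 1
    funext i
    exact Units.ext (by simp [hσ])
  have hd1 : co j v ∈ D.diagonalSubgroup K := co_mem Q j v
  have hd2 : torus D K (f ^ q) ∈ D.diagonalSubgroup K := by
    rw [Q.K.diagonalSubgroup_eq]; exact ⟨_, rfl⟩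
  have h3 := hfus _ hd1 _ hd2 (hv.trans h2)
  rw [show co j v = torus D K f from rfl, hact f] at h3
  rw [co_act, co_natCast_smul, h3]

include Q Cker hrd hj in
theorem mem_fixW_iff {v : Fin D.rank → ZMod r} (g : Q.X.M.Group) :
    g ∈ fixW Q (co j v) ↔ (rho Q g).map (Int.castRingHom (ZMod r)) *ᵥ v = v := by
  show Q.repGL g * torus D K _ * (Q.repGL g)⁻¹ = _ ↔ _
  rw [repGL_act, ← co_act]
  exact ⟨fun h => co_inj Q Cker hrd hj h, fun h => by rw [h]⟩

end Cfsg.Agent.H60.E65
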