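import Cfsg.Agent.H77.Homocyclic.Poly

/-!
Integer matrices of finite order and idempotent-like matrices: an eigenvector modulo a prime bounds
the rank from below, an element of order five bounds it from above.
-/
set_option autoImplicit false

namespace Cfsg.Agent.H60.E65

open Polynomial Matrix

variable {n : ℕ}

/-- The rank over the rationals of an integer matrix. -/
noncomputable def qrank (E : Matrix (Fin n) (Fin n) ℤ) : ℕ :=
  Module.finrank ℚ (LinearMap.range (Matrix.toLin' (E.map (Int.castRingHom ℚ))))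

/-- An eigenvector modulo `r` in the image of a commuting matrix: `φ(d)` is at most the rank. -/
theorem totient_le_qrank {r : ℕ} [Fact r.Prime] {l : ℕ} {M E : Matrix (Fin n) (Fin n) ℤ}
    (hl : M ^ l = 1) (hrl : ¬ r ∣ l) (hc : Commute M E) {d : ℕ} (hd : 0 < d) {z : ZMod r}
    (hz : IsPrimitiveRoot z d) {v : Fin n → ZMod r}
    (hv : M.map (Int.castRingHom (ZMod r)) *ᵥ v = z • v)
    (hEv : E.map (Int.castRingHom (ZMod r)) *ᵥ v ≠ 0) :
    d.totient ≤ qrank E := by
  set φ := Int.castRingHom ℚ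
  set ψ := Int.castRingHom (ZMod r)
  have hl0 : 0 < l := Nat.pos_of_ne_zero (by rintro rfl; exact hrl (dvd_zero r))
  set u := E.map ψ *ᵥ v with hu
  have hMu : M.map ψ *ᵥ u = z • u := by
    rw [hu, Matrix.mulVec_mulVec, ← Matrix.map_mul, hc.eq, Matrix.map_mul, ← Matrix.mulVec_mulVec,
      hv, Matrix.mulVec_smul]
  -- `d` divides `l`
  have hzl : z ^ l = 1 := by
    have hk : ∀ k : ℕ, (M ^ k).map ψ *ᵥ u = z ^ k • u := by
      intro k
      induction k with
      | zero => simp
      | succ k ih =>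
        rw [pow_succ, Matrix.map_mul, ← Matrix.mulVec_mulVec, hMu, Matrix.mulVec_smul, ih,
          smul_smul, pow_succ']
    have h := hk l
    rw [hl, Matrix.map_one _ (map_zero _) (map_one _), Matrix.one_mulVec] at h
    obtain ⟨i, hi⟩ := Function.ne_iff.1 hEv
    have hi' := congrFun h i
    rw [Pi.smul_apply, smul_eq_mul] at hi'
    exact mul_right_cancel₀ (b := u i) hi (by rw [one_mul, ← hi'])
  have hdl : d ∈ l.divisors := Nat.mem_divisors.2 ⟨hz.dvd_of_pow_eq_one l hzl, hl0.ne'⟩
  set b : ℤ[X] := ∏ i ∈ l.divisors.erase d, cyclotomic i ℤ with hb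
  have hprod : (X ^ l - 1 : ℤ[X]) = cyclotomic d ℤ * b := by
    rw [← prod_cyclotomic_eq_X_pow_sub_one hl0 ℤ]
    exact (Finset.mul_prod_erase l.divisors (fun i => cyclotomic i ℤ) hdl).symm
  have hbz : (b.map ψ).eval z ≠ 0 := by
    rw [hb, Polynomial.map_prod, eval_prod, Finset.prod_ne_zero_iff]
    intro i hi h0
    rw [Finset.mem_erase, Nat.mem_divisors] at hi
    rw [map_cyclotomic] at h0
    have : NeZero (i : ZMod r) := ⟨H77.Homocyclic.natCast_ne_zero_of_dvd hrl hi.2.1⟩
    exact hi.1 (((isRoot_cyclotomic_iff (R := ZMod r)).1 h0).unique hz)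
  -- the restriction of `M` to the image of `E`
  by_contra hlt
  rw [not_le] at hlt
  set fM := Matrix.toLin' (M.map φ) with hfM
  set fE := Matrix.toLin' (E.map φ) with hfE
  have hcomm : fM ∘ₗ fE = fE ∘ₗ fM := by
    rw [hfM, hfE, ← Matrix.toLin'_mul, ← Matrix.toLin'_mul, ← Matrix.map_mul, ← Matrix.map_mul,
      hc.eq]
  have hinv : ∀ x ∈ LinearMap.range fE, fM x ∈ LinearMap.range fE := by
    rintro _ ⟨y, rfl⟩
    exact ⟨fM y, (LinearMap.congr_fun hcomm y).symm⟩
  set g : Module.End ℚ (LinearMap.range fE) := fM.restrict hinv with hg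
  have hgpow : g ^ l = 1 := by
    refine LinearMap.ext fun x => Subtype.ext ?_
    rw [hg, Module.End.pow_restrict l, LinearMap.coe_restrict_apply, hfM, ← Matrix.toLin'_pow]
    rw [show M.map φ ^ l = (M ^ l).map φ from (map_pow φ.mapMatrix M l).symm, hl,
      Matrix.map_one _ (map_zero _) (map_one _), Matrix.toLin'_one]
    rfl
  have hm : minpoly ℚ g ∣ (cyclotomic d ℤ).map φ * b.map φ := by
    refine minpoly.dvd ℚ g ?_
    rw [← Polynomial.map_mul, ← hprod]
    simp [hgpow]
  have hdeg : (minpoly ℚ g).natDegree < d.totient := by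
    refine lt_of_le_of_lt ?_ hlt
    refine (natDegree_le_of_dvd (LinearMap.minpoly_dvd_charpoly g) g.charpoly_monic.ne_zero).trans
      (le_of_eq ?_)
    rw [LinearMap.charpoly_natDegree]
    rfl
  have hm0 : minpoly ℚ g ≠ 0 := minpoly.ne_zero (Algebra.IsIntegral.isIntegral g)
  have hcop : IsCoprime ((cyclotomic d ℤ).map φ) (minpoly ℚ g) := by
    rw [map_cyclotomic]
    refine (cyclotomic.irreducible_rat hd).coprime_iff_not_dvd.2 fun h => ?_
    have := natDegree_le_of_dvd h hm0
    rw [natDegree_cyclotomic] at this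
    omega
  obtain ⟨c, hcm⟩ : minpoly ℚ g ∣ b.map φ := hcop.symm.dvd_of_dvd_mul_left hm
  have hkill : aeval g (b.map φ) = 0 := by rw [hcm, map_mul, show aeval g (minpoly ℚ g) = 0 from minpoly.aeval ℚ g, zero_mul]
  -- `b(M) E = 0`
  have hz0 : aeval M b * E = 0 := by
    have h1 : Matrix.toLin' ((aeval M b * E).map φ) = 0 := by
      rw [Matrix.map_mul, Matrix.toLin'_mul]
      refine LinearMap.ext fun y => ?_
      have h2 : ∀ p : ℚ[X], ∀ x : LinearMap.range fE,
          ((aeval g p) x : Fin n → ℚ) = aeval fM p (x : Fin n → ℚ) := by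
        intro p x
        induction p using Polynomial.induction_on' with
        | add p q hp hq => simp [hp, hq]
        | monomial m a =>
            simp [aeval_monomial, Module.algebraMap_end_apply, hg, Module.End.pow_restrict m]
      have h3 := h2 (b.map φ) ⟨fE y, LinearMap.mem_range_self fE y⟩
      rw [hkill] at h3
      have h4 : Matrix.toLin' ((aeval M b).map φ) = aeval fM (b.map φ) := by
        have h5 : φ.mapMatrix (aeval M b) = aeval (M.map φ) (b.map φ) :=
          Polynomial.map_aeval_eq_aeval_map (φ := φ) (ψ := φ.mapMatrix)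
            (RingHom.ext fun z => by ext i j; simp [φ]) b M
        rw [RingHom.mapMatrix_apply] at h5
        rw [h5, hfM]
        exact (aeval_algHom_apply Matrix.toLinAlgEquiv' (M.map φ) (b.map φ)).symm
      rw [LinearMap.comp_apply, h4, ← hfE]
      exact h3.symm
    rw [map_eq_zero_iff _ (Matrix.toLin').injective] at h1
    ext i j
    have := congrFun (congrFun h1 i) j
    simpa [φ] using this
  -- modulo `r`
  have h1 : (aeval M b).map ψ *ᵥ u = 0 := by
    rw [hu, Matrix.mulVec_mulVec, ← Matrix.map_mul, hz0, Matrix.map_zero _ (map_zero _),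
      Matrix.zero_mulVec]
  have h2 : (aeval M b).map ψ *ᵥ u = (b.map ψ).eval z • u := by
    have h5 : ψ.mapMatrix (aeval M b) = aeval (M.map ψ) (b.map ψ) :=
      Polynomial.map_aeval_eq_aeval_map (φ := ψ) (ψ := ψ.mapMatrix)
        (RingHom.ext fun z => by ext i j; simp [ψ]) b M
    rw [RingHom.mapMatrix_apply] at h5
    rw [h5, ← Matrix.toLin'_apply]
    have h6 := Module.End.aeval_apply_of_hasEigenvector (f := Matrix.toLin' (M.map ψ)) (μ := z)
      (p := b.map ψ) (x := u) ⟨Module.End.mem_eigenspace_iff.2 (by rw [Matrix.toLin'_apply, hMu]), hEv⟩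
    rw [← h6]
    exact congrArg (fun f => f u) (aeval_algHom_apply Matrix.toLinAlgEquiv' (M.map ψ) (b.map ψ)).symm
  rw [h1] at h2
  obtain ⟨i, hi⟩ := Function.ne_iff.1 hEv
  have h3 := congrFun h2.symm i
  rw [Pi.smul_apply, smul_eq_mul, Pi.zero_apply, mul_eq_zero] at h3
  exact h3.elim hbz hi

/-- A matrix fixed on the left by an element of prime order five has corank at least four. -/
theorem qrank_add_four_le {R E : Matrix (Fin n) (Fin n) ℤ} (h5 : R ^ 5 = 1) (hR : R ≠ 1)
    (hRE : R * E = E) : qrank E + 4 ≤ n := by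
  set φ := Int.castRingHom ℚ
  have h5' : Nat.Prime 5 := Nat.prime_five
  have := Fact.mk h5'
  have hdvd : cyclotomic 5 ℤ ∣ R.charpoly := by
    by_contra hnd
    refine hR ?_
    have hd := H77.Homocyclic.charpoly_dvd h5
    rw [← cyclotomic_prime_mul_X_sub_one ℤ 5, mul_pow] at hd
    have hp : Prime (cyclotomic 5 ℤ) := (cyclotomic.irreducible (by norm_num)).prime
    obtain ⟨g, hg⟩ := hd
    obtain ⟨g', rfl⟩ : cyclotomic 5 ℤ ^ n ∣ g :=
      hp.pow_dvd_of_dvd_mul_left _ hnd ⟨_, hg.symm⟩
    have hdd : R.charpoly ∣ (X - 1 : ℤ[X]) ^ n :=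
      ⟨g', mul_left_cancel₀ (pow_ne_zero n hp.ne_zero) (by rw [hg]; ring)⟩
    have := H77.Homocyclic.aeval_eq_zero h5 (by norm_num) hdd
    rw [map_sub, aeval_X, map_one, sub_eq_zero] at this
    exact this
  obtain ⟨g, hg⟩ := hdvd
  have hgm : g.Monic := (cyclotomic.monic 5 ℤ).of_mul_monic_left (hg ▸ R.charpoly_monic)
  have hdeg : g.natDegree + 4 = n := by
    have := congrArg natDegree hg
    rw [Matrix.charpoly_natDegree_eq_dim, Fintype.card_fin,
      (cyclotomic.monic 5 ℤ).natDegree_mul hgm, natDegree_cyclotomic,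
      Nat.totient_prime h5'] at this
    omega
  have hle : LinearMap.range (Matrix.toLin' (E.map φ)) ≤
      Module.End.eigenspace (Matrix.toLin' (R.map φ)) 1 := by
    rintro _ ⟨y, rfl⟩
    rw [Module.End.mem_eigenspace_iff, one_smul, ← LinearMap.comp_apply, ← Matrix.toLin'_mul,
      ← Matrix.map_mul, hRE]
  have hmult : rootMultiplicity (1 : ℚ) (Matrix.toLin' (R.map φ)).charpoly ≤ g.natDegree := by
    rw [Matrix.charpoly_toLin', Matrix.charpoly_map, hg, Polynomial.map_mul, map_cyclotomic]
    have h1 : ¬ (cyclotomic 5 ℚ).IsRoot 1 := by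
      rw [IsRoot.def, eval_one_cyclotomic_prime]; norm_num
    have hne : cyclotomic 5 ℚ * g.map φ ≠ 0 :=
      ((cyclotomic.monic 5 ℚ).mul (hgm.map _)).ne_zero
    rw [rootMultiplicity_mul hne, rootMultiplicity_eq_zero h1, zero_add,
      ← natDegree_map_eq_of_injective (f := φ) (fun a b h => Int.cast_injective (α := ℚ) h) g]
    rw [← count_roots]
    exact (Multiset.count_le_card _ _).trans (card_roots' _)
  have h : qrank E ≤ _ := (Submodule.finrank_mono hle).trans
    ((LinearMap.finrank_eigenspace_le _ _).trans hmult)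
  omega

end Cfsg.Agent.H60.E65
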