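import Cfsg.Agent.H60.E65.Weyl

/-!
A diagonal element without fixed points on the positive unipotent subgroup.
-/
set_option autoImplicit false

namespace Cfsg.Agent.H60.E65

open Cfsg.Lie Matrix Cfsg.Agent.H77.Homocyclic
open Cfsg.Agent.Chevalley (cor torus Valid dU pe pairingSum)

variable {D : ChevalleyDatum} {K : Type*} [Field K] (Q : H37.Chev.Data D K)

/-- The values of the fundamental roots at `torus c`. -/
def rootVal (c : Fin D.rank → Kˣ) : ℕ → Kˣ := fun j => ∏ m : Fin D.rank, c m ^ D.cartan m (D.simple j)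

theorem torus_eq_chi (c : Fin D.rank → Kˣ) :
    torus D K c = dU (Q.K.chi K (rootVal c)) := by
  show dU _ = dU _
  congr 1
  funext x
  rcases x with a | s
  · simp [pe, Chevalley.Cert.chi]
  · simp only [pe, Sum.elim_inr, Chevalley.Cert.chi, Chevalley.Cert.cfI_inr, rootVal,
      ← Finset.prod_zpow]
    rw [Finset.prod_comm]
    refine Finset.prod_congr rfl fun m _ => ?_
    rw [Q.K.pairing_simple m.isLt, Q.K.cartan_lin m m.isLt s s.isLt, Chevalley.list_sum_range_map,
      zpow_sum']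
    exact Finset.prod_congr rfl fun j _ => by rw [← _root_.zpow_mul, mul_comm]

theorem torus_conj_x (c : Fin D.rank → Kˣ) {r : ℕ} (hr : r < D.nroots) (t : K) :
    torus D K c * Q.K.xU K r t * (torus D K c)⁻¹ =
      Q.K.xU K r ((Q.K.chiR K (rootVal c) r : K) * t) := by
  rw [torus_eq_chi Q]
  exact Q.K.dU_conj_xU K hr (Q.K.scales_chi K _ hr) t

theorem eq_one_of_commute {c : Fin D.rank → Kˣ}
    (hne : ∀ r, r < D.nroots → D.nroots / 2 ≤ r → Q.K.chiR K (rootVal c) r ≠ 1) {u : GL D.Idx K}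
    (hu : u ∈ D.posUnipotent K) (hc : Commute u (torus D K c)) : u = 1 := by
  have hs : torus D K c ∈ D.diagonalSubgroup K := by
    rw [Q.K.diagonalSubgroup_eq]; exact ⟨c, rfl⟩
  set s : ↥(D.group K) := ⟨torus D K c, H37.diagonal_le_group Q.ord hs⟩
  have hsH : s ∈ Q.sys.H := hs
  set Y := Q.sys.toUnip
  have hP : ∀ {k}, k ∈ Y.P → k < D.nroots ∧ D.nroots / 2 ≤ k := fun {k} hk => by
    rw [show Y.P = H37.RootSys.posSet D from Q.sys.P_eq] at hk
    exact H37.RootSys.mem_posSet.1 hk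
  suffices h : ∀ m k, Y.P.sup id < k + m → ∀ g ∈ H37.RootSys.XS Y.x {r | r ∈ Y.P ∧ k ≤ r},
      s * g * s⁻¹ = g → g = 1 by
    have hu' : (⟨u, H37.posUnipotent_le_group hu⟩ : ↥(D.group K)) ∈ Q.amb.U := by
      rw [Q.amb_U]; exact hu
    have h1 := h (Y.P.sup id + 1) 0 (by omega) _
      (H37.RootSys.XS_mono (S' := {r | r ∈ Y.P ∧ 0 ≤ r}) (fun r hr => ⟨(show Y.P = H37.RootSys.posSet D from Q.sys.P_eq).symm ▸ hr, Nat.zero_le r⟩) hu')
      (Subtype.ext (by
        show torus D K c * u * (torus D K c)⁻¹ = u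
        rw [← hc.eq, mul_inv_cancel_right]))
    exact congrArg Subtype.val h1
  intro m
  induction m with
  | zero =>
    intro k hk g hg _
    have : {r | r ∈ Y.P ∧ k ≤ r} = ∅ := by
      refine Set.eq_empty_iff_forall_notMem.2 fun r hr => ?_
      have := Finset.le_sup (f := id) hr.1
      simp only [id_eq] at this
      have := hr.2
      omega
    rwa [this, H37.RootSys.XS_empty, Subgroup.mem_bot] at hg
  | succ m ih =>
    intro k hk g hg hfix
    by_cases hkP : k ∈ Y.P
    · obtain ⟨t, p, hp, rfl⟩ := Y.exists_head Y.closed_P hkP hg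
      have hp' : s * p * s⁻¹ ∈ H37.RootSys.XS Y.x {r | r ∈ Y.P ∧ k < r} :=
        H37.RootSys.conj_mem_XS (fun r hr x => by
          obtain ⟨x', e⟩ := Q.sys.h_conj s hsH r (hP hr.1).1 x
          rw [show Y.x r x = Q.sys.x r x from rfl, e]
          exact H37.RootSys.x_mem_XS hr x') hp
      obtain ⟨hk1, hk2⟩ := hP hkP
      have hx : s * Y.x k t * s⁻¹ = Y.x k ((Q.K.chiR K (rootVal c) k : K) * t) :=
        Subtype.ext (torus_conj_x Q c hk1 t)
      have e : Y.x k ((Q.K.chiR K (rootVal c) k : K) * t) * (s * p * s⁻¹) = Y.x k t * p := by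
        rw [← hx, ← hfix]; group
      obtain ⟨h1, h2⟩ := Y.head_unique Y.closed_P hkP hp' hp e
      obtain rfl : t = 0 := by
        by_contra ht
        exact hne k hk1 hk2 (Units.ext (mul_right_cancel₀ ht (by rw [h1, Units.val_one, one_mul])))
      rw [Y.x_zero hkP, one_mul]
      exact ih (k + 1) (by omega) p hp h2
    · rw [H37.RootSys.Unip.tail_of_not_mem hkP] at hg
      exact ih (k + 1) (by omega) g hg hfix

/-- A subgroup normalised by a fixed-point-free element of `p`-power order. -/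
theorem natCast_card_centralizer {G : Type*} [Group G] [Finite G] {p k : ℕ} [Fact p.Prime]
    {X : Subgroup G} {s t : G} (hs : s ^ p ^ k = 1) (hst : Commute s t)
    (hX : ∀ v ∈ X, s * v * s⁻¹ ∈ X) (hfree : ∀ v ∈ X, Commute v s → v = 1) :
    (Nat.card {v : G // v ∈ X ∧ Commute v t} : ZMod p) = 1 := by
  classical
  have : Fintype {v : G // v ∈ X ∧ Commute v t} := Fintype.ofFinite _
  let f : Function.End {v : G // v ∈ X ∧ Commute v t} := fun v =>
    ⟨s * v.1 * s⁻¹, hX _ v.2.1, (hst.mul_left v.2.2).mul_left hst.inv_left⟩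
  have hpow : ∀ (n : ℕ) v, ((f ^ n) v).1 = s ^ n * v.1 * (s ^ n)⁻¹ := by
    intro n
    induction n with
    | zero => intro v; simp [Function.End.one_def]
    | succ n ih =>
      intro v
      rw [pow_succ']
      show s * ((f ^ n) v).1 * s⁻¹ = _
      rw [ih, pow_succ']
      group
  have hf : f ^ p ^ k = 1 := funext fun v => Subtype.ext (by rw [hpow, hs]; simp [Function.End.one_def])
  have h := Equiv.Perm.card_fixedPoints_modEq hf
  have h1 : Fintype.card (Function.fixedPoints f) = 1 := by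
    refine Fintype.card_eq_one_iff.2 ⟨⟨⟨1, one_mem _, Commute.one_left t⟩, Subtype.ext (by simp [f])⟩, ?_⟩
    rintro ⟨⟨v, hv, hvt⟩, e⟩
    have e' : s * v * s⁻¹ = v := congrArg Subtype.val e
    exact Subtype.ext (Subtype.ext (hfree v hv (mul_inv_eq_iff_eq_mul.1 e').symm))
  rw [Nat.card_eq_fintype_card, (ZMod.natCast_eq_natCast_iff _ _ p).2 h, h1, Nat.cast_one]

/-- A subgroup of index prime to `p` contains a conjugate of every `p`-element. -/
theorem exists_conj_mem {G : Type*} [Group G] [Finite G] {p : ℕ} [Fact p.Prime] {H : Subgroup G}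
    (hH : ¬ p ∣ H.index) {y : G} {k : ℕ} (hy : y ^ p ^ k = 1) : ∃ c : G, c * y * c⁻¹ ∈ H := by
  obtain ⟨S⟩ : Nonempty (Sylow p H) := inferInstance
  have hp : p.Prime := Fact.out
  let S₀ : Sylow p G := Sylow.ofCard ((S : Subgroup H).map H.subtype) (by
    rw [Subgroup.card_subtype, S.card_eq_multiplicity, Nat.factorization_def _ hp,
      Nat.factorization_def _ hp, ← H.index_mul_card, padicValNat.mul H.index_ne_zero_of_finite
      Nat.card_pos.ne', padicValNat.eq_zero_of_not_dvd hH, zero_add])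
  have hyp : IsPGroup p (Subgroup.zpowers y) := by
    intro g
    obtain ⟨i, hi⟩ := Subgroup.mem_zpowers_iff.1 g.2
    refine ⟨k, Subtype.ext ?_⟩
    rw [SubmonoidClass.coe_pow, ← hi, ← zpow_natCast, ← _root_.zpow_mul, mul_comm, _root_.zpow_mul, zpow_natCast,
      hy, _root_.one_zpow]
    rfl
  obtain ⟨S₂, hS₂⟩ := hyp.exists_le_sylow
  obtain ⟨c, hc⟩ := MulAction.exists_smul_eq G S₂ S₀
  refine ⟨c, ?_⟩
  have h1 : MulAut.conj c y ∈ (c • S₂ : Sylow p G) :=
    Subgroup.smul_mem_pointwise_smul _ (MulAut.conj c) _ (hS₂ (Subgroup.mem_zpowers y))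
  rw [hc] at h1
  obtain ⟨x, -, hx⟩ := h1
  rw [show c * y * c⁻¹ = x from hx.symm]
  exact x.2

end Cfsg.Agent.H60.E65
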