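import Cfsg.Agent.H60.E65.Lin
import Cfsg.Agent.H60.E65.Regular
import Cfsg.Agent.H60.E65.Coord
import Cfsg.Agent.H37.Weyl.Summary

/-!
The Chevalley group of type E7 over the field with two elements has no element of order 65.
-/
set_option autoImplicit false

namespace Cfsg.Agent.H60.E65

open Cfsg.Lie Matrix Cfsg.Agent.H77.Homocyclic Polynomial
open Cfsg.Agent.H37 (KerCert)
open Cfsg.Agent.Chevalley (cor torus Valid dU)

theorem cartanMat_E7 : cartanMat chevE7 = H37.cartanE7 :=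
  Matrix.ext fun i j => of_decide_eq_true ((show ∀ i j : Fin 7,
    decide (cartanMat chevE7 i j = H37.cartanE7 i j) = true by decide +kernel) i j)

theorem cor_inj_E7 : ∀ r s : Fin chevE7.nroots,
    (∀ m : Fin chevE7.rank, cor chevE7 r m = cor chevE7 s m) → r = s := by
  intro r s h
  have hn : ((List.range chevE7.nroots).map
      fun r => (List.range chevE7.rank).map (cor chevE7 r)).Nodup := by decide +kernel
  refine Fin.ext ((List.nodup_map_iff_inj_on List.nodup_range).1 hn r (List.mem_range.2 r.isLt) s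
    (List.mem_range.2 s.isLt) ?_)
  exact List.map_congr_left fun m hm => h ⟨m, List.mem_range.1 hm⟩

theorem prim_two : IsPrimitiveRoot (2 : ZMod 13) 12 :=
  IsPrimitiveRoot.mk_of_lt (2 : ZMod 13) (by norm_num) (by decide) fun l h1 h2 => by
    interval_cases l <;> decide

theorem prim_six : IsPrimitiveRoot (6 : ZMod 13) 12 :=
  IsPrimitiveRoot.mk_of_lt (6 : ZMod 13) (by norm_num) (by decide) fun l h1 h2 => by
    interval_cases l <;> decide

theorem prim_five : IsPrimitiveRoot (5 : ZMod 13) 4 :=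
  IsPrimitiveRoot.mk_of_lt (5 : ZMod 13) (by norm_num) (by decide) fun l h1 h2 => by
    interval_cases l <;> decide

theorem prim_eight : IsPrimitiveRoot (8 : ZMod 13) 4 :=
  IsPrimitiveRoot.mk_of_lt (8 : ZMod 13) (by norm_num) (by decide) fun l h1 h2 => by
    interval_cases l <;> decide

theorem prim_two_five : IsPrimitiveRoot (2 : ZMod 5) 4 :=
  IsPrimitiveRoot.mk_of_lt (2 : ZMod 5) (by norm_num) (by decide) fun l h1 h2 => by
    interval_cases l <;> decide

theorem neZero_twelve : NeZero ((12 : ℕ) : ZMod 13) := ⟨by decide⟩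

theorem neZero_four : NeZero ((4 : ℕ) : ZMod 13) := ⟨by decide⟩

theorem seven_mul_two : (7 : ZMod 13) * 2 = 1 := by decide

theorem two_pow_five : (2 : ZMod 13) ^ 5 = 6 ∧ (2 : ZMod 5) ^ 5 = 2 := by decide

theorem cubes : (2 : ZMod 13) * (2 * 2) = 8 ∧ (6 : ZMod 13) * (6 * 6) = 8 ∧
    (5 : ZMod 13) * (5 * 5) = 8 := by decide

theorem two_six_five_injective : Function.Injective ![(2 : ZMod 13), 6, 5] := by decide

theorem heights_E7 : ∀ r < chevE7.nroots, chevE7.nroots / 2 ≤ r →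
    ¬ (25 : ℤ) ∣ 2 * ∑ m ∈ Finset.range chevE7.rank, Chevalley.E7.cert.cf r m := by
  decide +kernel

section Weyl

variable {K : Type} [Field K]

/-- The stabiliser of a vector modulo `p` in the Weyl group. -/
noncomputable def vecStab (Q : H37.Chev.Data chevE7 K) {p : ℕ} (v : Fin chevE7.rank → ZMod p) :
    Subgroup Q.X.M.Group where
  carrier := {g | (rho Q g).map (Int.castRingHom (ZMod p)) *ᵥ v = v}
  mul_mem' {a b} ha hb := by
    show (rho Q (a * b)).map _ *ᵥ v = v
    rw [rho_mul, Matrix.map_mul, ← Matrix.mulVec_mulVec, hb, ha]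
  one_mem' := by
    show (rho Q 1).map _ *ᵥ v = v
    rw [rho_one, Matrix.map_one _ (map_zero _) (map_one _), Matrix.one_mulVec]
  inv_mem' {a} ha := by
    show (rho Q a⁻¹).map _ *ᵥ v = v
    conv_lhs => rw [← show (rho Q a).map _ *ᵥ v = v from ha]
    rw [Matrix.mulVec_mulVec, ← Matrix.map_mul, ← rho_mul, inv_mul_cancel, rho_one,
      Matrix.map_one _ (map_zero _) (map_one _), Matrix.one_mulVec]

theorem mem_vecStab (Q : H37.Chev.Data chevE7 K) {p : ℕ} {v : Fin chevE7.rank → ZMod p}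
    {g : Q.X.M.Group} :
    g ∈ vecStab Q v ↔ (rho Q g).map (Int.castRingHom (ZMod p)) *ᵥ v = v := Iff.rfl

/-- No element of order five fixes an eigenvector for a twelfth root of unity modulo 13. -/
theorem five_not_dvd_vecStab (Q : H37.Chev.Data chevE7 K)
    (hcard : Nat.card Q.X.M.Group = 2903040) {g₁ : Q.X.M.Group}
    {v : Fin chevE7.rank → ZMod 13} (hv0 : v ≠ 0)
    (hv : (rho Q g₁).map (Int.castRingHom (ZMod 13)) *ᵥ v = (2 : ZMod 13) • v) :
    ¬ 5 ∣ Nat.card (vecStab Q v) := by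
  have : Fact (Nat.Prime 13) := ⟨by norm_num⟩
  have : Fact (Nat.Prime 5) := ⟨by norm_num⟩
  have : Finite Q.X.M.Group := Nat.finite_of_card_ne_zero (by omega)
  intro h5
  obtain ⟨g, hg⟩ := exists_prime_orderOf_dvd_card' 5 h5
  have : Fintype (vecStab Q v) := Fintype.ofFinite _
  set E : Matrix (Fin chevE7.rank) (Fin chevE7.rank) ℤ := ∑ s : vecStab Q v, rho Q s.1 with hE
  set ψ := Int.castRingHom (ZMod 13)
  have hRE : rho Q g.1 * E = E := by
    rw [hE, Finset.mul_sum]
    exact Fintype.sum_equiv (Equiv.mulLeft g) _ _ fun s => by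
      simp [rho_mul]
  have hg5 : rho Q g.1 ^ 5 = 1 := by
    rw [← rho_pow, ← SubmonoidClass.coe_pow, show g ^ 5 = 1 by rw [← hg]; exact pow_orderOf_eq_one g]
    exact rho_one Q
  have hg1 : rho Q g.1 ≠ 1 := fun h => by
    have : g = 1 := Subtype.ext (rho_injective Q cor_inj_E7 h)
    rw [this, orderOf_one] at hg
    omega
  have hup := qrank_add_four_le hg5 hg1 hRE
  -- conjugation by `g₁`
  have hconj : ∀ s : vecStab Q v, g₁ * s.1 * g₁⁻¹ ∈ vecStab Q v := by
    intro s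
    rw [mem_vecStab, rho_mul, rho_mul, Matrix.map_mul, Matrix.map_mul, ← Matrix.mulVec_mulVec,
      ← Matrix.mulVec_mulVec]
    set u := (rho Q g₁⁻¹).map ψ *ᵥ v with hu
    have h2 : (2 : ZMod 13) • u = v := by
      rw [hu, ← Matrix.mulVec_smul, ← hv, Matrix.mulVec_mulVec, ← Matrix.map_mul, ← rho_mul,
        inv_mul_cancel, rho_one, Matrix.map_one _ (map_zero _) (map_one _), Matrix.one_mulVec]
    have hu' : u = (7 : ZMod 13) • v := by
      rw [← h2, smul_smul, seven_mul_two, one_smul]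
    rw [hu', Matrix.mulVec_smul, show (rho Q s.1).map ψ *ᵥ v = v from s.2, Matrix.mulVec_smul, hv,
      smul_smul, seven_mul_two, one_smul]
  have hbij : Function.Bijective (fun s : vecStab Q v =>
      (⟨g₁ * s.1 * g₁⁻¹, hconj s⟩ : vecStab Q v)) := by
    refine Finite.injective_iff_bijective.1 fun a b h => Subtype.ext ?_
    exact mul_left_cancel (mul_right_cancel (congrArg Subtype.val h))
  have hcomm : Commute (rho Q g₁) E := by
    show rho Q g₁ * E = E * rho Q g₁
    rw [hE, Finset.mul_sum, Finset.sum_mul]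
    refine Fintype.sum_bijective _ hbij _ _ fun s => ?_
    rw [← rho_mul, ← rho_mul, inv_mul_cancel_right]
  have hEv : E.map ψ *ᵥ v = (Nat.card (vecStab Q v) : ZMod 13) • v := by
    rw [show E.map ψ = ∑ s : vecStab Q v, (rho Q s.1).map ψ from map_sum ψ.mapMatrix _ _,
      Matrix.sum_mulVec, Finset.sum_congr rfl (fun s _ => show (rho Q s.1).map ψ *ᵥ v = v from s.2),
      Finset.sum_const, Finset.card_univ, Nat.card_eq_fintype_card, ← Nat.cast_smul_eq_nsmul (ZMod 13)]
  have hEv0 : E.map ψ *ᵥ v ≠ 0 := by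
    rw [hEv, Ne, smul_eq_zero, not_or]
    refine ⟨fun h => ?_, hv0⟩
    have h1 := ((ZMod.natCast_eq_zero_iff _ _).1 h).trans (vecStab Q v).card_subgroup_dvd_card
    rw [hcard] at h1
    omega
  have hz := prim_two
  have hlow := totient_le_qrank (rho_pow_card Q g₁) (by rw [hcard]; norm_num) hcomm (by norm_num)
    hz hv hEv0
  rw [show Nat.totient 12 = 4 by decide] at hlow
  have : chevE7.rank = 7 := rfl
  omega

/-- The multiplicity of the fourth roots of unity in the cube. -/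
theorem exists_cube_multiplicity {n l : ℕ} {N : Matrix (Fin n) (Fin n) ℤ} (hNl : N ^ l = 1)
    (hl13 : ¬ 13 ∣ l) (d12 : cyclotomic 12 ℤ ∣ N.charpoly) (d4 : cyclotomic 4 ℤ ∣ N.charpoly) :
    ∃ k, 3 ≤ k ∧ cyclotomic 4 ℤ ^ k ∣ (N ^ 3).charpoly := by
  have : Fact (Nat.Prime 13) := ⟨by norm_num⟩
  -- eigenvectors for 2, 6, 5 modulo 13
  have hev : ∀ {d : ℕ} {a : ZMod 13}, cyclotomic d ℤ ∣ N.charpoly → NeZero (d : ZMod 13) →
      IsPrimitiveRoot a d → ∃ u, Module.End.HasEigenvector (Matrix.toLin' (N.map (Int.castRingHom (ZMod 13)))) a u := by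
    intro d a hd _ ha
    have h1 : ((cyclotomic d ℤ).map (Int.castRingHom (ZMod 13))).IsRoot a := by
      rw [map_cyclotomic]; exact isRoot_cyclotomic_iff.2 ha
    have h2 := h1.dvd (Polynomial.map_dvd (Int.castRingHom (ZMod 13)) hd)
    rw [← Matrix.charpoly_map, ← Matrix.charpoly_toLin',
      ← Module.End.hasEigenvalue_iff_isRoot_charpoly] at h2
    exact h2.exists_hasEigenvector
  obtain ⟨u2, hu2⟩ := hev (a := 2) d12 neZero_twelve
    prim_two
  obtain ⟨u6, hu6⟩ := hev (a := 6) d12 neZero_twelve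
    prim_six
  obtain ⟨u5, hu5⟩ := hev (a := 5) d4 neZero_four
    prim_five
  have hli : LinearIndependent (ZMod 13) ![u2, u6, u5] :=
    Module.End.eigenvectors_linearIndependent' _ ![(2 : ZMod 13), 6, 5] two_six_five_injective
      ![u2, u6, u5] (Fin.forall_fin_succ.2 ⟨hu2, Fin.forall_fin_succ.2 ⟨hu6,
        Fin.forall_fin_succ.2 ⟨hu5, fun i => i.elim0⟩⟩⟩)
  set M := N ^ 3 with hM
  have hMl : M ^ l = 1 := by
    rw [hM, ← pow_mul, mul_comm, pow_mul, hNl, one_pow]
  have hz8 := prim_eight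
  set Ev : Set (Fin n → ZMod 13) :=
    {u | M.map (Int.castRingHom (ZMod 13)) *ᵥ u = (8 : ZMod 13) • u} with hEv
  obtain ⟨k, hk, hle⟩ := card_eigen_le (r := 13) hMl hl13 (d := 4) (by norm_num) hz8 Ev
    (fun u hu => hu)
  have hmem : ∀ i, ![u2, u6, u5] i ∈ Ev := by
    intro i
    have h3 : ∀ {a : ZMod 13} {u : Fin n → ZMod 13},
        Module.End.HasEigenvector (Matrix.toLin' (N.map (Int.castRingHom (ZMod 13)))) a u →
        a * (a * a) = 8 → u ∈ Ev := by
      intro a u hu ha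
      have h4 := hu.apply_eq_smul
      rw [Matrix.toLin'_apply] at h4
      show M.map _ *ᵥ u = _
      rw [hM, pow_succ, pow_two, Matrix.map_mul, Matrix.map_mul, ← Matrix.mulVec_mulVec,
        ← Matrix.mulVec_mulVec]
      simp only [h4, Matrix.mulVec_smul, smul_smul]
      rw [← ha, mul_assoc]
    fin_cases i
    · exact h3 hu2 cubes.1
    · exact h3 hu6 cubes.2.1
    · exact h3 hu5 cubes.2.2
  have h3k : 13 ^ 3 ≤ Nat.card Ev := by
    let f : (Fin 3 → ZMod 13) → Ev := fun c => ⟨∑ i, c i • ![u2, u6, u5] i, by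
      show M.map _ *ᵥ _ = _
      rw [Matrix.mulVec_sum, Finset.smul_sum]
      exact Finset.sum_congr rfl fun i _ => by
        rw [Matrix.mulVec_smul, show M.map _ *ᵥ ![u2, u6, u5] i = _ from hmem i, smul_comm]⟩
    have hf : Function.Injective f := fun a b h => by
      funext i
      have h' : ∑ i, (a i - b i) • ![u2, u6, u5] i = 0 := by
        simp only [sub_smul, Finset.sum_sub_distrib, sub_eq_zero]
        exact congrArg Subtype.val h
      exact sub_eq_zero.1 (Fintype.linearIndependent_iff.1 hli _ h' i)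
    have := Nat.card_le_card_of_injective f hf
    rwa [Nat.card_fun, Nat.card_zmod, Nat.card_fin] at this
  have hk3 : 3 ≤ k := (Nat.pow_le_pow_iff_right (by norm_num : 1 < 13)).1 (h3k.trans hle)
  exact ⟨k, hk3, hk⟩

/-- No Weyl group element has eigenvalues two both modulo 13 and modulo 5. -/
theorem no_common_twist (Q : H37.Chev.Data chevE7 K)
    (hcard : Nat.card Q.X.M.Group = 2903040) (g : Q.X.M.Group)
    {v : Fin chevE7.rank → ZMod 13} (hv0 : v ≠ 0)
    (hv : (rho Q g).map (Int.castRingHom (ZMod 13)) *ᵥ v = (2 : ZMod 13) • v)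
    {w : Fin chevE7.rank → ZMod 5} (hw0 : w ≠ 0)
    (hw : (rho Q g).map (Int.castRingHom (ZMod 5)) *ᵥ w = (2 : ZMod 5) • w) : False := by
  have : Fact (Nat.Prime 13) := ⟨by norm_num⟩
  have : Fact (Nat.Prime 5) := ⟨by norm_num⟩
  set N := rho Q g ^ 5 with hN
  obtain ⟨l, hl⟩ : ∃ l : ℕ, l = 580608 := ⟨_, rfl⟩
  have hl13 : ¬ 13 ∣ l := by omega
  have hl5 : ¬ 5 ∣ l := by omega
  have hl0 : l ≠ 0 := by omega
  have hNl : N ^ l = 1 := by
    rw [hN, ← pow_mul, show 5 * l = Nat.card Q.X.M.Group by omega]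
    exact rho_pow_card Q g
  have hpow : ∀ {p : ℕ} {u : Fin chevE7.rank → ZMod p},
      (rho Q g).map (Int.castRingHom (ZMod p)) *ᵥ u = (2 : ZMod p) • u → ∀ k : ℕ,
      (rho Q g ^ k).map (Int.castRingHom (ZMod p)) *ᵥ u = (2 : ZMod p) ^ k • u := by
    intro p u hu k
    induction k with
    | zero => simp
    | succ k ih =>
      rw [pow_succ, Matrix.map_mul, ← Matrix.mulVec_mulVec, hu, Matrix.mulVec_smul, ih, smul_smul,
        pow_succ']
  -- roots of the characteristic polynomial modulo a prime from an eigenvector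
  have hroot : ∀ {p : ℕ} [Fact p.Prime] {u : Fin chevE7.rank → ZMod p} {a : ZMod p}, u ≠ 0 →
      N.map (Int.castRingHom (ZMod p)) *ᵥ u = a • u →
      (N.charpoly.map (Int.castRingHom (ZMod p))).IsRoot a := by
    intro p _ u a hu hau
    rw [← Matrix.charpoly_map, ← Matrix.charpoly_toLin']
    refine Module.End.hasEigenvalue_iff_isRoot_charpoly _ _ |>.1 ?_
    exact Module.End.hasEigenvalue_of_hasEigenvector
      ⟨Module.End.mem_eigenspace_iff.2 (by rw [Matrix.toLin'_apply]; exact hau), hu⟩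
  have h13 : (N.charpoly.map (Int.castRingHom (ZMod 13))).IsRoot 6 := by
    refine hroot hv0 ?_
    rw [hN, hpow hv 5, two_pow_five.1]
  have h5 : (N.charpoly.map (Int.castRingHom (ZMod 5))).IsRoot 2 := by
    refine hroot hw0 ?_
    rw [hN, hpow hw 5, two_pow_five.2]
  have d12 : cyclotomic 12 ℤ ∣ N.charpoly := by
    refine H77.Homocyclic.cyclotomic_dvd hl13 (H77.Homocyclic.charpoly_dvd hNl)
      (by norm_num) prim_six h13
  have d4 : cyclotomic 4 ℤ ∣ N.charpoly := by
    refine H77.Homocyclic.cyclotomic_dvd hl5 (H77.Homocyclic.charpoly_dvd hNl)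
      (by norm_num) prim_two_five h5
  obtain ⟨k, hk3, hk⟩ := exists_cube_multiplicity hNl hl13 d12 d4
  set M := N ^ 3 with hM
  have hMl : M ^ l = 1 := by
    rw [hM, ← pow_mul, mul_comm, pow_mul, hNl, one_pow]
  have hb : EigenBound (cartanMat chevE7) [2, 6, 8, 10, 12, 14, 18] := by
    rw [cartanMat_E7]; exact eigenBound_E7
  have hMmem : M ∈ weylMonoid (cartanMat chevE7) := by
    rw [hM, hN]; exact pow_mem (pow_mem (rho_mem Q g) 5) 3
  have := hb M hMmem l hl0 hMl 4 k ⟨8, by simp, by norm_num⟩ hk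
  simp at this
  omega

end Weyl

section Group

theorem rootVal_zpow {D : ChevalleyDatum} {K : Type} [Field K] (ζ : Kˣ) (e : Fin D.rank → ℤ) (m : ℕ) :
    rootVal (fun i => ζ ^ e i) m = ζ ^ (∑ i, e i * D.cartan i (D.simple m)) := by
  simp only [rootVal, ← _root_.zpow_mul, zpow_sum']

theorem adj_cartan : ∀ m : Fin 7,
    (∑ i : Fin 7, (∑ k, adjE7 i k) * chevE7.cartan i (chevE7.simple m)) = 2 := by
  decide +kernel


variable {K : Type} [Field K] [Finite K]

theorem centralizer_index (Q : H37.Chev.Data chevE7 K) {j : Multiplicative (ZMod 13) →* Kˣ}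
    (hj : Function.Injective j) (Cker : KerCert (cartanMat chevE7) 2 1)
    (hcard : Nat.card Q.X.M.Group = 2903040) (h25 : 25 ∣ Nat.card Kˣ)
    (hht : ∀ r < chevE7.nroots, chevE7.nroots / 2 ≤ r →
      ¬ (25 : ℤ) ∣ 2 * ∑ m ∈ Finset.range chevE7.rank, Q.K.cf r m) {v : Fin chevE7.rank → ZMod 13}
    (hS : ¬ 5 ∣ Nat.card (vecStab Q v)) :
    ¬ 5 ∣ ((chevE7.diagonalSubgroup K).subgroupOf
      (chevE7.group K ⊓ Subgroup.centralizer ({co j v} : Set (GL chevE7.Idx K)))).index := by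
  have : Fact (Nat.Prime 13) := ⟨by norm_num⟩
  have : Fact (Nat.Prime 5) := ⟨by norm_num⟩
  have : Finite Q.X.M.Group := Nat.finite_of_card_ne_zero (by omega)
  -- a regular element of order dividing 25
  obtain ⟨j25, hj25⟩ := Arith.exists_zmod_hom (C := Kˣ) (m := 25) h25
  set ζ := j25 (Multiplicative.ofAdd 1) with hζ
  let c : Fin chevE7.rank → Kˣ := fun i => ζ ^ (∑ k, adjE7 i k : ℤ)
  have hroot : ∀ m, m < chevE7.rank → rootVal c m = ζ ^ (2 : ℤ) := by
    intro m hm
    exact (rootVal_zpow (D := chevE7) ζ (fun i => ∑ k : Fin 7, adjE7 i k) m).trans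
      (congrArg (fun e : ℤ => ζ ^ e) (adj_cartan ⟨m, hm⟩))
  have hne : ∀ r, r < chevE7.nroots → chevE7.nroots / 2 ≤ r →
      Q.K.chiR K (rootVal c) r ≠ 1 := by
    intro r hr hp h
    rw [Chevalley.Cert.chiR, Finset.prod_congr rfl (g := fun m => (ζ ^ (2 : ℤ)) ^ Q.K.cf r m)
      (fun m hm => by rw [hroot m (Finset.mem_range.1 hm)]), ← zpow_sum', ← _root_.zpow_mul] at h
    rw [hζ, ← map_zpow, ← map_one j25] at h
    have h' := hj25 h
    rw [← ofAdd_zsmul, ofAdd_eq_one, zsmul_one, ZMod.intCast_zmod_eq_zero_iff_dvd] at h'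
    exact hht r hr hp h'
  set t := co (D := chevE7) j v with ht
  set s := torus chevE7 K c with hs
  have htd : t ∈ chevE7.diagonalSubgroup K := co_mem Q j v
  have hsd : s ∈ chevE7.diagonalSubgroup K := by
    rw [Q.K.diagonalSubgroup_eq]; exact ⟨c, rfl⟩
  have hs25 : s ^ 5 ^ 2 = 1 := by
    rw [hs, ← map_pow, show c ^ 5 ^ 2 = 1 from ?_, map_one]
    funext i
    rw [Pi.pow_apply, Pi.one_apply, show c i = ζ ^ (∑ k, adjE7 i k : ℤ) from rfl, ← zpow_natCast,
      ← _root_.zpow_mul, mul_comm, _root_.zpow_mul, zpow_natCast, hζ, ← map_pow, ← ofAdd_nsmul]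
    rw [show (5 ^ 2) • (1 : ZMod 25) = 0 by decide, ofAdd_zero, map_one, _root_.one_zpow]
  have hfree : ∀ {X : Subgroup (GL chevE7.Idx K)}, X ≤ chevE7.posUnipotent K →
      ∀ u ∈ X, Commute u s → u = 1 := fun {X} hX u hu hc => eq_one_of_commute Q hne (hX hu) hc
  have hst : Commute s t := Q.diag_comm hsd htd
  have hU : (Nat.card {u : GL chevE7.Idx K // u ∈ chevE7.posUnipotent K ∧ Commute u t} : ZMod 5) = 1 :=
    natCast_card_centralizer hs25 hst (fun u hu => diag_conj_U Q hsd hu) (hfree le_rfl)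
  have hUw : ∀ w, (Nat.card {u : GL chevE7.Idx K // u ∈ Q.UwGL w ∧ Commute u t} : ZMod 5) = 1 :=
    fun w => natCast_card_centralizer hs25 hst (fun u hu => diag_conj_Uw Q hsd hu)
      (hfree (UwGL_le Q w))
  set C := chevE7.group K ⊓ Subgroup.centralizer ({t} : Set (GL chevE7.Idx K)) with hC
  have hHC : chevE7.diagonalSubgroup K ≤ C := fun h hh =>
    ⟨H37.diagonal_le_group Q.ord hh, Subgroup.mem_centralizer_singleton_iff.2 (Q.diag_comm hh htd)⟩
  set H' := (chevE7.diagonalSubgroup K).subgroupOf C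
  have hH' : Nat.card H' = Nat.card (chevE7.diagonalSubgroup K) :=
    Nat.card_congr (Subgroup.subgroupOfEquivOfLe hHC).toEquiv
  have hCc : Nat.card C = Nat.card {g : GL chevE7.Idx K // g ∈ chevE7.group K ∧ Commute g t} := by
    refine Nat.card_congr (Equiv.subtypeEquivRight fun g => ?_)
    rw [hC, Subgroup.mem_inf, Subgroup.mem_centralizer_singleton_iff]
    rfl
  set SU := Nat.card {u : GL chevE7.Idx K // u ∈ chevE7.posUnipotent K ∧ Commute u t}
  set SS := Nat.card (Σ w : fixW Q t, {u : GL chevE7.Idx K // u ∈ Q.UwGL w.1 ∧ Commute u t})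
  have hidx : H'.index = SU * SS := by
    have h1 := H'.index_mul_card
    rw [hH', hCc, card_centralizer Q htd, Nat.card_prod, Nat.card_prod] at h1
    exact Nat.eq_of_mul_eq_mul_right (Nat.card_pos (α := chevE7.diagonalSubgroup K))
      (h1.trans (by ring))
  intro hd
  refine hS ?_
  have : Fintype (fixW Q t) := Fintype.ofFinite _
  have hSS : (SS : ZMod 5) = (Nat.card (vecStab Q v) : ZMod 5) := by
    show (Nat.card _ : ZMod 5) = _
    rw [Nat.card_sigma, Nat.cast_sum, Finset.sum_congr rfl (fun w _ => hUw w.1), Finset.sum_const,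
      Finset.card_univ, nsmul_eq_mul, mul_one, ← Nat.card_eq_fintype_card]
    congr 1
    exact Nat.card_congr (Equiv.subtypeEquivRight fun g => mem_fixW_iff Q Cker (by norm_num) hj g)
  rw [← ZMod.natCast_eq_zero_iff, ← hSS]
  have := (ZMod.natCast_eq_zero_iff H'.index 5).2 hd
  rwa [hidx, Nat.cast_mul, hU, one_mul] at this

end Group

theorem map_pow_commute {A B : Type*} [Group A] [Group B] (f : A →* B) (z : A) (a b : ℕ) :
    Commute (f (z ^ a)) (f (z ^ b)) :=
  ((Commute.refl z).pow_pow a b).map f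

/-- `E7(2)` has no element of order 65. -/
theorem no_order_sixty_five (z : ↥(chevE7.group (ZMod 2))) : orderOf z ≠ 65 := by
  intro hz
  have : Fact (Nat.Prime 2) := ⟨Nat.prime_two⟩
  have : Fact (Nat.Prime 13) := ⟨by norm_num⟩
  have : Fact (Nat.Prime 5) := ⟨by norm_num⟩
  let K := FiniteField.Extension (ZMod 2) 2 60
  have : Fintype K := Fintype.ofFinite K
  have hK : Fintype.card K = 2 ^ 60 := by
    rw [← Nat.card_eq_fintype_card, FiniteField.natCard_extension, Nat.card_zmod]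
  have hKu : Nat.card Kˣ = 2 ^ 60 - 1 := by
    rw [Nat.card_units, Nat.card_eq_fintype_card, hK]
  set Q := H37.Chev.dataE7 K with hQ
  have hcard : Nat.card Q.X.M.Group = 2903040 := H37.Weyl.cardE7
  have Cker : KerCert (cartanMat chevE7) 2 1 := cartanMat_E7.symm ▸ H37.kerCertE7
  let ι : ZMod 2 →+* K := algebraMap (ZMod 2) K
  let σ : K →+* K := (FiniteField.frobeniusAlgHom (ZMod 2) K).toRingHom
  have hσ : ∀ x, σ x = x ^ 2 := fun x => by
    show FiniteField.frobeniusAlgHom (ZMod 2) K x = _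
    rfl
  have hσι : ∀ x : GL chevE7.Idx (ZMod 2), Matrix.GeneralLinearGroup.map σ
      (Matrix.GeneralLinearGroup.map ι x) = Matrix.GeneralLinearGroup.map ι x := by
    intro x
    refine Units.ext (Matrix.ext fun i j => ?_)
    exact (FiniteField.frobeniusAlgHom (ZMod 2) K).commutes _
  let φ : ↥(chevE7.group (ZMod 2)) →* ↥(chevE7.group K) :=
    ((Matrix.GeneralLinearGroup.map ι).comp (chevE7.group (ZMod 2)).subtype).codRestrict _
      fun x => Q.K.map_mem_group ι x.2
  have hφ : Function.Injective φ := by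
    intro x y h
    refine Subtype.ext (Units.ext (Matrix.ext fun i j => ι.injective ?_))
    exact congrFun (congrFun (congrArg (fun z : ↥(chevE7.group K) =>
      ((z : GL chevE7.Idx K) : Matrix chevE7.Idx chevE7.Idx K)) h) i) j
  set x := φ (z ^ 5) with hx
  set y := φ (z ^ 13) with hy
  have hx13 : x ^ 13 = 1 := by
    rw [hx, ← map_pow, ← pow_mul, show 5 * 13 = orderOf z by rw [hz], pow_orderOf_eq_one, map_one]
  have hy5 : y ^ 5 = 1 := by
    rw [hy, ← map_pow, ← pow_mul, show 13 * 5 = orderOf z by rw [hz], pow_orderOf_eq_one, map_one]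
  have hx1 : x ≠ 1 := fun h => by
    have h' := hφ (h.trans (map_one φ).symm)
    have := orderOf_dvd_of_pow_eq_one h'
    rw [hz] at this
    omega
  have hy1 : y ≠ 1 := fun h => by
    have h' := hφ (h.trans (map_one φ).symm)
    have := orderOf_dvd_of_pow_eq_one h'
    rw [hz] at this
    omega
  -- the diagonal subgroup has index prime to 13
  set H₀ := (chevE7.diagonalSubgroup K).subgroupOf (chevE7.group K) with hH₀
  have hidx13 : ¬ 13 ∣ H₀.index := by
    have h1 := H₀.index_mul_card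
    rw [Nat.card_congr (Subgroup.subgroupOfEquivOfLe (H37.diagonal_le_group Q.ord)).toEquiv] at h1
    have hd := H37.Chev.diag_E7 K
    have hg := Q.card_group H37.Weyl.degsE7 rfl hd
    have hK' : Nat.card K = 2 ^ 60 := by rw [Nat.card_eq_fintype_card, hK]
    rw [hK'] at hd hg
    rw [show Nat.gcd 2 (2 ^ 60 - 1) = 1 by norm_num, one_mul] at hd hg
    intro h13
    have h2 : 13 * Nat.card (chevE7.diagonalSubgroup K) ∣ Nat.card ↥(chevE7.group K) :=
      h1 ▸ Nat.mul_dvd_mul_right h13 _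
    rw [hd, hg, show chevE7.nroots / 2 = 63 from rfl] at h2
    exact absurd (Nat.dvd_iff_mod_eq_zero.1 h2) (by decide +kernel)
  obtain ⟨g, hg⟩ := exists_conj_mem hidx13 (y := x) (k := 1) (by rw [pow_one]; exact hx13)
  have hg' : ((g * x * g⁻¹ : ↥(chevE7.group K)) : GL chevE7.Idx K) ∈ chevE7.diagonalSubgroup K := hg
  have hKu13 : 13 ∣ Nat.card Kˣ := by rw [hKu]; norm_num
  have hKu5 : 5 ∣ Nat.card Kˣ := by rw [hKu]; norm_num
  obtain ⟨j, hj⟩ := Arith.exists_zmod_hom (C := Kˣ) (m := 13) hKu13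
  obtain ⟨j5, hj5⟩ := Arith.exists_zmod_hom (C := Kˣ) (m := 5) hKu5
  obtain ⟨v, hv⟩ := exists_coord Q Cker (by norm_num) hj hg' (by
    rw [← SubmonoidClass.coe_pow, conj_pow, hx13]; simp)
  have hv0 : v ≠ 0 := by
    rintro rfl
    rw [co_zero] at hv
    have h1 : g * x * g⁻¹ = 1 := Subtype.ext hv.symm
    exact hx1 (by rwa [mul_inv_eq_one, mul_eq_left] at h1)
  -- a normal form of a twisting element
  have htwist : ∀ (p : ℕ) [Fact p.Prime] (jp : Multiplicative (ZMod p) →* Kˣ),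
      Function.Injective jp → ¬ p ∣ 2 → ∀ (a : ↥(chevE7.group K)) (x₀ : ↥(chevE7.group (ZMod 2))),
      ∀ n L, (∀ c, n * torus chevE7 K c * n⁻¹ = torus chevE7 K (act (wMat chevE7 L) c)) →
      (∀ h₁ ∈ chevE7.diagonalSubgroup K, ∀ h₂ ∈ chevE7.diagonalSubgroup K,
        (Matrix.GeneralLinearGroup.map σ (a : GL chevE7.Idx K) * (a : GL chevE7.Idx K)⁻¹) * h₁ *
          (Matrix.GeneralLinearGroup.map σ (a : GL chevE7.Idx K) * (a : GL chevE7.Idx K)⁻¹)⁻¹ = h₂ →
          n * h₁ * n⁻¹ = h₂) →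
      ∀ v : Fin chevE7.rank → ZMod p,
        co jp v = ((a * φ x₀ * a⁻¹ : ↥(chevE7.group K)) : GL chevE7.Idx K) →
        (wMat chevE7 L).map (Int.castRingHom (ZMod p)) *ᵥ v = ((2 : ℕ) : ZMod p) • v := by
    intro p _ jp hjp hp2 a x₀ n L hact hfus v hv
    refine eigen_of_twist Q Cker hp2 hjp hσ hact hfus ?_
    rw [hv, Subgroup.coe_mul, Subgroup.coe_mul, Subgroup.coe_inv, map_mul, map_mul, map_inv,
      show ((φ x₀ : ↥(chevE7.group K)) : GL chevE7.Idx K) =
        Matrix.GeneralLinearGroup.map ι (x₀ : GL chevE7.Idx (ZMod 2)) from rfl, hσι]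
    group
  have hgen : ∀ a : ↥(chevE7.group K), ∃ n L, Valid chevE7 L ∧
      (∀ c, n * torus chevE7 K c * n⁻¹ = torus chevE7 K (act (wMat chevE7 L) c)) ∧
      (∀ h₁ ∈ chevE7.diagonalSubgroup K, ∀ h₂ ∈ chevE7.diagonalSubgroup K,
        (Matrix.GeneralLinearGroup.map σ (a : GL chevE7.Idx K) * (a : GL chevE7.Idx K)⁻¹) * h₁ *
          (Matrix.GeneralLinearGroup.map σ (a : GL chevE7.Idx K) * (a : GL chevE7.Idx K)⁻¹)⁻¹ = h₂ →
          n * h₁ * n⁻¹ = h₂) := by
    intro a
    obtain ⟨n, hn, hfus⟩ := fusion_all Q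
      (mul_mem (Q.K.map_mem_group σ a.2) (inv_mem a.2) :
        Matrix.GeneralLinearGroup.map σ (a : GL chevE7.Idx K) * (a : GL chevE7.Idx K)⁻¹ ∈
          chevE7.group K)
    obtain ⟨L, hL, hact⟩ := monomial_act Q.K K hn
    exact ⟨n, L, hL, hact, hfus⟩
  obtain ⟨n₁, L₁, hL₁, hact₁, hfus₁⟩ := hgen g
  have hv2 := htwist 13 j hj (by norm_num) g (z ^ 5) n₁ L₁ hact₁ hfus₁ v hv
  rw [wMat_eq_rho Q hL₁, Nat.cast_ofNat] at hv2
  have hS := five_not_dvd_vecStab Q hcard hv0 hv2
  have hidx5 := centralizer_index Q hj Cker hcard (by rw [hKu]; norm_num)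
    heights_E7 hS
  set t := co (D := chevE7) j v with ht
  set C := chevE7.group K ⊓ Subgroup.centralizer ({t} : Set (GL chevE7.Idx K)) with hC
  have hxy : Commute x y := map_pow_commute φ z 5 13
  have hgy : ((g * y * g⁻¹ : ↥(chevE7.group K)) : GL chevE7.Idx K) ∈ C := by
    refine ⟨SetLike.coe_mem _, Subgroup.mem_centralizer_singleton_iff.2 ?_⟩
    rw [hv, ← Subgroup.coe_mul, ← Subgroup.coe_mul]
    refine congrArg Subtype.val ?_
    rw [show g * y * g⁻¹ * (g * x * g⁻¹) = g * (y * x) * g⁻¹ by group, hxy.symm.eq]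
    group
  have hgy5 : (g * y * g⁻¹) ^ 5 = 1 := by rw [conj_pow, hy5]; group
  obtain ⟨c, hc⟩ := exists_conj_mem hidx5 (y := (⟨_, hgy⟩ : C)) (k := 1) (Subtype.ext (by
    rw [pow_one]
    exact congrArg ((chevE7.group K).subtype) hgy5))
  obtain ⟨hcG, hct⟩ := c.2
  replace hct := Subgroup.mem_centralizer_singleton_iff.1 hct
  set a : ↥(chevE7.group K) := ⟨c.1, hcG⟩ * g with ha
  have hax : ((a * x * a⁻¹ : ↥(chevE7.group K)) : GL chevE7.Idx K) = t := by
    rw [ha, show ⟨c.1, hcG⟩ * g * x * (⟨c.1, hcG⟩ * g)⁻¹ =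
      (⟨c.1, hcG⟩ : ↥(chevE7.group K)) * (g * x * g⁻¹) * (⟨c.1, hcG⟩ : ↥(chevE7.group K))⁻¹ by group,
      Subgroup.coe_mul, Subgroup.coe_mul, ← hv, Subgroup.coe_inv]
    exact mul_inv_eq_iff_eq_mul.2 hct
  have hay : ((a * y * a⁻¹ : ↥(chevE7.group K)) : GL chevE7.Idx K) ∈ chevE7.diagonalSubgroup K := by
    rw [ha, show ⟨c.1, hcG⟩ * g * y * (⟨c.1, hcG⟩ * g)⁻¹ =
      (⟨c.1, hcG⟩ : ↥(chevE7.group K)) * (g * y * g⁻¹) * (⟨c.1, hcG⟩ : ↥(chevE7.group K))⁻¹ by group]
    exact hc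
  obtain ⟨w, hw⟩ := exists_coord Q Cker (by norm_num) hj5 hay (by
    rw [← SubmonoidClass.coe_pow, conj_pow, hy5]; simp)
  have hw0 : w ≠ 0 := by
    rintro rfl
    rw [co_zero] at hw
    have h1 : a * y * a⁻¹ = 1 := Subtype.ext hw.symm
    exact hy1 (by rwa [mul_inv_eq_one, mul_eq_left] at h1)
  obtain ⟨n₂, L₂, hL₂, hact₂, hfus₂⟩ := hgen a
  have h13 := htwist 13 j hj (by norm_num) a (z ^ 5) n₂ L₂ hact₂ hfus₂ v hax.symm
  have h5 := htwist 5 j5 hj5 (by norm_num) a (z ^ 13) n₂ L₂ hact₂ hfus₂ w hw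
  rw [wMat_eq_rho Q hL₂, Nat.cast_ofNat] at h13 h5
  exact no_common_twist Q hcard (wProd Q L₂) hv0 h13 hw0 h5

end Cfsg.Agent.H60.E65
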