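import Cfsg.Agent.H55.SLTwoClasses
import Cfsg.Agent.H55.PSLPrimeGraph
import Cfsg.Agent.H55.SpPrimeGraph
import Cfsg.Agent.H55.UnitaryOrders

/-!
Elements of order divisible by 65 in classical groups over fields with 8 or 64 elements.
-/
set_option autoImplicit false

namespace Cfsg.Agent.H60.E65

/-- A homomorphic image with trivial kernel has an element of order 65. -/
theorem false_of_embedding {A B : Type*} [Group A] [Group B] [Finite A] (f : A →* B)
    (hf : Function.Injective f) (hB : ∀ z : B, orderOf z ≠ 65) (h : ∃ y : A, 65 ∣ orderOf y) :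
    False := by
  obtain ⟨y, hy⟩ := h
  refine hB (f (y ^ (orderOf y / 65))) ?_
  rw [orderOf_injective f hf, orderOf_pow_of_dvd (Nat.div_ne_zero_iff.2 ⟨by norm_num,
    Nat.le_of_dvd (orderOf_pos y) hy⟩) (Nat.div_dvd_of_dvd hy), Nat.div_div_self hy (orderOf_pos y).ne']

theorem isEmpty_of_order {A G : Type*} [Group A] [Group G] [Finite G]
    (hG : ∀ z : G, orderOf z ≠ 65) (H : Subgroup G) (h : ∃ y : A, 65 ∣ orderOf y) :
    IsEmpty (↥H ≃* A) :=
  ⟨fun e => by
    have := Finite.of_equiv _ e.toEquiv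
    exact false_of_embedding (H.subtype.comp e.symm.toMonoidHom)
      (H.subtype_injective.comp e.symm.injective) hG h⟩

theorem charP_two_of_card {F : Type*} [Field F] [Fintype F] {e : ℕ}
    (h : Fintype.card F = 2 ^ e) (he : e ≠ 0) : CharP F 2 := by
  obtain ⟨p, hp⟩ := CharP.exists F
  have hpp : p.Prime :=
    (CharP.char_is_prime_or_zero F p).resolve_right (CharP.char_ne_zero_of_finite F p)
  obtain ⟨n, -, hn⟩ := FiniteField.card F p
  have h2 : p ∣ 2 ^ e := h ▸ hn ▸ dvd_pow_self p n.ne_zero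
  obtain rfl := (Nat.prime_dvd_prime_iff_eq hpp Nat.prime_two).1 (hpp.dvd_of_dvd_pow h2)
  exact hp

variable {F : Type*} [Field F] [Fintype F]

theorem exists_psl_two (h : Fintype.card F = 64) :
    ∃ y : Matrix.ProjectiveSpecialLinearGroup (Fin 2) F, 65 ∣ orderOf y := by
  have : Fact (Nat.Prime 2) := ⟨Nat.prime_two⟩
  have := charP_two_of_card (e := 6) (h.trans (by norm_num)) (by norm_num)
  obtain ⟨-, -, y, hy⟩ := H55.exists_torus_orders (F := F) 2
  rw [h, show (64 + 1) / Nat.gcd 2 (64 - 1) = 65 by decide] at hy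
  exact ⟨y, hy⟩

theorem exists_psl_four (h : Fintype.card F = 8) :
    ∃ y : Matrix.ProjectiveSpecialLinearGroup (Fin 4) F, 65 ∣ orderOf y := by
  have : Fact (Nat.Prime 2) := ⟨Nat.prime_two⟩
  have := charP_two_of_card (e := 3) (h.trans (by norm_num)) (by norm_num)
  obtain ⟨y, hy⟩ := H55.exists_singer (F := F) (n := 4) 2 (by norm_num)
  rw [Nat.card_eq_fintype_card, h, show (8 ^ 4 - 1) / (8 - 1) / Nat.gcd 4 (8 - 1) = 585 by decide]
    at hy
  exact ⟨y, (by norm_num : 65 ∣ 585).trans hy⟩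

theorem exists_psp (h : Fintype.card F = 8) {n : ℕ} (hn : 2 ≤ n) :
    ∃ y : Cfsg.PSp n F, 65 ∣ orderOf y := by
  have : Fact (Nat.Prime 2) := ⟨Nat.prime_two⟩
  have := charP_two_of_card (e := 3) (h.trans (by norm_num)) (by norm_num)
  have ht : H55.HasTorus F 2 65 := H55.hasTorus 2 (by norm_num)
    (Or.inl (by rw [Nat.card_eq_fintype_card, h]; norm_num))
  exact ht.exists_psp hn (by omega) (Or.inl (by decide))

theorem exists_psu_four (h : Fintype.card F = 64) : ∃ y : Cfsg.PSU 4 F 8, 65 ∣ orderOf y := by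
  have : Fact (Nat.Prime 2) := ⟨Nat.prime_two⟩
  have := charP_two_of_card (e := 6) (h.trans (by norm_num)) (by norm_num)
  obtain ⟨y, hy⟩ := H55.exists_coxeter_SU (F := F) (n := 4) (q := 8) 2 (h.trans (by norm_num))
    (by norm_num)
  rw [show H55.uH 8 4 / Nat.gcd 4 (8 + 1) = 455 by decide] at hy
  exact ⟨y, (by norm_num : 65 ∣ 455).trans hy⟩

end Cfsg.Agent.H60.E65
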