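import Cfsg.Agent.H77.Homocyclic.Torus
import Cfsg.Agent.H37.Chev.Order

/-!
The matrices of all Weyl group elements on the coordinates of the diagonal subgroup, and the
centraliser of a diagonal element in the normal form.
-/
set_option autoImplicit false

namespace Cfsg.Agent.H60.E65

open Cfsg.Lie Matrix Cfsg.Agent.H77.Homocyclic
open Cfsg.Agent.Chevalley (cor torus Valid dU)

variable {D : ChevalleyDatum} {K : Type*} [Field K] (Q : H37.Chev.Data D K)

/-- The matrix of a Weyl group element on the coordinates with respect to the coroots. -/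
noncomputable def rho (g : Q.X.M.Group) : Matrix (Fin D.rank) (Fin D.rank) ℤ :=
  Matrix.of fun k j => cor D (Q.X.good.hom g ⟨D.simple j, (Q.K.simple_lt j j.isLt).1⟩).val k

/-- The product of a word of generators. -/
noncomputable def wProd (L : List ℕ) : Q.X.M.Group := (L.map (H37.Weyl.gen Q.X.M)).prod

theorem wMat_mulVec {L : List ℕ} (hL : Valid D L) (s : Fin D.nroots) :
    wMat D L *ᵥ (fun m : Fin D.rank => cor D s m)
      = fun m : Fin D.rank => cor D (Q.X.good.hom (wProd Q L) s).val m := by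
  induction L generalizing s with
  | nil => simp [wMat, wProd]
  | cons i L ih =>
    obtain ⟨hi, hL'⟩ := Chevalley.valid_cons.1 hL
    rw [wMat_cons hi, ← Matrix.mulVec_mulVec, ih hL' s, refl_cor Q.K hi (Fin.isLt _)]
    have hi' : i < Q.X.n := Q.rank_eq ▸ hi
    funext m
    congr 2
    simp only [wProd, List.map_cons, List.prod_cons, map_mul, Equiv.Perm.mul_apply]
    rw [show H37.Weyl.gen Q.X.M i = Q.X.M.simple ⟨i, hi'⟩ from dif_pos hi',
      Q.X.good.hom_simple_val, Q.K.w_reflect i hi _ (Fin.isLt _)]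

theorem wMat_eq_rho {L : List ℕ} (hL : Valid D L) : wMat D L = rho Q (wProd Q L) := by
  refine Matrix.ext_of_mulVec_single fun j => ?_
  have e : (fun m : Fin D.rank => cor D (D.simple j) m) = Pi.single j 1 := by
    funext m
    rw [Q.K.cor_simple j j.isLt m m.isLt, Pi.single_apply]
    simp [Fin.ext_iff]
  rw [← e, wMat_mulVec Q hL ⟨D.simple j, (Q.K.simple_lt j j.isLt).1⟩, e, Matrix.mulVec_single_one]
  rfl

theorem exists_word (g : Q.X.M.Group) : ∃ L, Valid D L ∧ wProd Q L = g := by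
  refine H37.RootSys.Sys.gen_induction (p := fun g => ∃ L, Valid D L ∧ wProd Q L = g)
    ⟨[], by simp [Valid], rfl⟩ ?_ g
  rintro i w ⟨L, hL, rfl⟩
  refine ⟨i.val :: L, Chevalley.valid_cons.2 ⟨Q.rank_eq.symm ▸ i.isLt, hL⟩, ?_⟩
  rw [wProd, List.map_cons, List.prod_cons, H37.RootSys.Sys.gen_eq]
  rfl

theorem valid_append {L L' : List ℕ} (h : Valid D L) (h' : Valid D L') : Valid D (L ++ L') := by
  induction L with
  | nil => exact h'
  | cons i L ih =>
    obtain ⟨hi, hL⟩ := Chevalley.valid_cons.1 h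
    exact Chevalley.valid_cons.2 ⟨hi, ih hL⟩

theorem rho_mul (a b : Q.X.M.Group) : rho Q (a * b) = rho Q a * rho Q b := by
  obtain ⟨L, hL, rfl⟩ := exists_word Q a
  obtain ⟨L', hL', rfl⟩ := exists_word Q b
  rw [← wMat_eq_rho Q hL, ← wMat_eq_rho Q hL', show wProd Q L * wProd Q L' = wProd Q (L ++ L') by
    simp [wProd], ← wMat_eq_rho Q (valid_append hL hL')]
  simp [wMat]

theorem rho_one : rho Q 1 = 1 := by
  rw [show (1 : Q.X.M.Group) = wProd Q [] from rfl, ← wMat_eq_rho Q (by simp [Valid])]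
  rfl

theorem rho_mem (g : Q.X.M.Group) : rho Q g ∈ weylMonoid (cartanMat D) := by
  obtain ⟨L, hL, rfl⟩ := exists_word Q g
  rw [← wMat_eq_rho Q hL]
  exact wMat_mem L

theorem rho_pow (g : Q.X.M.Group) (k : ℕ) : rho Q (g ^ k) = rho Q g ^ k := by
  induction k with
  | zero => rw [pow_zero, pow_zero, rho_one]
  | succ k ih => rw [pow_succ, pow_succ, rho_mul, ih]

theorem rho_pow_card (g : Q.X.M.Group) : rho Q g ^ Nat.card Q.X.M.Group = 1 := by
  rw [← rho_pow, pow_card_eq_one', rho_one]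

theorem rho_injective
    (hcor : ∀ r s : Fin D.nroots, (∀ m : Fin D.rank, cor D r m = cor D s m) → r = s)
    {a : Q.X.M.Group} (h : rho Q a = 1) : a = 1 := by
  obtain ⟨L, hL, rfl⟩ := exists_word Q a
  refine Q.X.good.hom_injective ?_
  rw [map_one]
  refine Equiv.ext fun s => hcor _ _ fun m => ?_
  have := congrFun (wMat_mulVec Q hL s) m
  rw [wMat_eq_rho Q hL, h, Matrix.one_mulVec] at this
  exact this.symm

theorem repGL_act (g : Q.X.M.Group) (c : Fin D.rank → Kˣ) :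
    Q.repGL g * torus D K c * (Q.repGL g)⁻¹ = torus D K (act (rho Q g) c) := by
  revert c
  refine H37.RootSys.Sys.gen_induction (p := fun g => ∀ c,
    Q.repGL g * torus D K c * (Q.repGL g)⁻¹ = torus D K (act (rho Q g) c)) ?_ ?_ g
  · intro c
    rw [rho_one, act_one, show Q.repGL 1 = 1 from congrArg Subtype.val Q.sys.rep_one]
    group
  · intro i w ih c
    obtain ⟨h, hh, e⟩ := Q.sys.ns_rep (i := i) w
    have e' := congrArg (Subtype.val (p := fun g => g ∈ D.group K)) e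
    rw [Subgroup.coe_mul, Subgroup.coe_mul] at e'
    have hi : i.val < D.rank := Q.rank_eq.symm ▸ i.isLt
    have hn : ((Q.sys.ns i : ↥(D.group K)) : GL D.Idx K) = Q.K.nS K i := rfl
    have hh' : ((h : ↥(D.group K)) : GL D.Idx K) ∈ D.diagonalSubgroup K := hh
    rw [Q.K.diagonalSubgroup_eq] at hh'
    obtain ⟨a, ha⟩ := hh'
    have hr : Q.repGL (Q.X.M.simple i * w) = (torus D K a)⁻¹ * (Q.K.nS K i * Q.repGL w) := by
      show ((Q.sys.rep (Q.X.M.simple i * w) : ↥(D.group K)) : GL D.Idx K) = _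
      rw [← hn, show Q.repGL w = ((Q.sys.rep w : ↥(D.group K)) : GL D.Idx K) from rfl, e', ha]
      group
    have hsimp : rho Q (Q.X.M.simple i) = refl (cartanMat D) ⟨i, hi⟩ := by
      rw [show Q.X.M.simple i = wProd Q [i.val] by
        simp [wProd, H37.RootSys.Sys.gen_eq], ← wMat_eq_rho Q (by simp [Valid, hi]), wMat_cons hi]
      simp [wMat]
    rw [rho_mul, hsimp, act_mul, hr,
      show (torus D K a)⁻¹ * (Q.K.nS K i * Q.repGL w) * torus D K c *
          ((torus D K a)⁻¹ * (Q.K.nS K i * Q.repGL w))⁻¹ =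
        torus D K a⁻¹ * (Q.K.nS K i * (Q.repGL w * torus D K c * (Q.repGL w)⁻¹) * (Q.K.nS K i)⁻¹) *
          (torus D K a⁻¹)⁻¹ by rw [map_inv]; group,
      ih c, nS_conj_torus Q.K K hi, torus_comm]

/-- The elements of the Weyl group fixing a diagonal element. -/
def fixW (t : GL D.Idx K) : Set Q.X.M.Group := {g | Q.repGL g * t * (Q.repGL g)⁻¹ = t}

include Q in
/-- Diagonal elements normalise the positive unipotent subgroup. -/
theorem diag_conj_U {t u : GL D.Idx K} (ht : t ∈ D.diagonalSubgroup K)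
    (hu : u ∈ D.posUnipotent K) : t * u * t⁻¹ ∈ D.posUnipotent K := by
  have ha' : (⟨u, H37.posUnipotent_le_group hu⟩ : ↥(D.group K)) ∈ Q.amb.U := by
    rw [Q.amb_U]; exact hu
  have := Q.amb.H_conj_U ⟨t, H37.diagonal_le_group Q.ord ht⟩ ht _ ha'
  rw [Q.amb_U] at this
  exact this

include Q in
/-- Diagonal elements normalise the subgroups `U_w`. -/
theorem diag_conj_Uw {t v : GL D.Idx K} {w : Q.X.M.Group} (ht : t ∈ D.diagonalSubgroup K)
    (hv : v ∈ Q.UwGL w) : t * v * t⁻¹ ∈ Q.UwGL w := by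
  obtain ⟨a, ha, rfl⟩ := hv
  refine ⟨⟨t, H37.diagonal_le_group Q.ord ht⟩ * a * ⟨t, H37.diagonal_le_group Q.ord ht⟩⁻¹,
    H37.RootSys.conj_mem_XS (fun s hs x => ?_) ha, by simp⟩
  obtain ⟨t', e⟩ := Q.sys.h_conj _ (show (⟨t, H37.diagonal_le_group Q.ord ht⟩ : ↥(D.group K)) ∈
    Q.sys.H from ht) s (H37.RootSys.Sys.mem_flip.1 hs).1 x
  rw [e]
  exact H37.RootSys.x_mem_XS hs t'

theorem UwGL_le (w : Q.X.M.Group) : Q.UwGL w ≤ D.posUnipotent K := by
  rintro _ ⟨a, ha, rfl⟩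
  have := Q.amb.Uw_le w ha
  rw [Q.amb_U] at this
  exact this

theorem card_centralizer {t : GL D.Idx K} (ht : t ∈ D.diagonalSubgroup K) :
    Nat.card {g : GL D.Idx K // g ∈ D.group K ∧ Commute g t} =
      Nat.card ({u : GL D.Idx K // u ∈ D.posUnipotent K ∧ Commute u t} × ↥(D.diagonalSubgroup K) ×
        (Σ w : fixW Q t, {v : GL D.Idx K // v ∈ Q.UwGL w.1 ∧ Commute v t})) := by
  symm
  refine Nat.card_congr (Equiv.ofBijective (fun p =>
    (⟨p.1.1 * p.2.1.1 * Q.repGL p.2.2.1.1 * p.2.2.2.1, ?_, ?_⟩ :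
      {g : GL D.Idx K // g ∈ D.group K ∧ Commute g t})) ⟨?_, ?_⟩)
  · refine mul_mem (mul_mem (mul_mem (H37.posUnipotent_le_group p.1.2.1)
      (H37.diagonal_le_group Q.ord p.2.1.2)) (SetLike.coe_mem (Q.sys.rep _))) ?_
    obtain ⟨a, -, e⟩ := p.2.2.2.2.1
    rw [← e]
    exact a.2
  · obtain ⟨⟨u, hu, hut⟩, ⟨h, hh⟩, ⟨w, hw⟩, ⟨v, hv, hvt⟩⟩ := p
    refine ((hut.mul_left (Q.diag_comm hh ht)).mul_left ?_).mul_left hvt
    exact mul_inv_eq_iff_eq_mul.1 hw
  · rintro ⟨⟨u, hu⟩, ⟨h, hh⟩, ⟨w, hw⟩, ⟨v, hv⟩⟩ ⟨⟨u', hu'⟩, ⟨h', hh'⟩, ⟨w', hw'⟩, ⟨v', hv'⟩⟩ e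
    obtain ⟨rfl, rfl, rfl, rfl⟩ :=
      Q.unique_GL hu.1 hu'.1 hh hh' hv.1 hv'.1 (congrArg Subtype.val e)
    rfl
  · rintro ⟨g, hg, hgt⟩
    obtain ⟨u, hu, h, hh, w, v, hv, rfl⟩ := Q.mem_group_exists hg
    have hU := diag_conj_U Q ht hu
    have hv' := diag_conj_Uw Q ht hv
    have hd : t * h * (Q.repGL w * t⁻¹ * (Q.repGL w)⁻¹) ∈ D.diagonalSubgroup K :=
      mul_mem (mul_mem ht hh) (Q.repGL_conj_H w (inv_mem ht))
    have e : u * h * Q.repGL w * v
        = t * u * t⁻¹ * (t * h * (Q.repGL w * t⁻¹ * (Q.repGL w)⁻¹)) * Q.repGL w * (t * v * t⁻¹) := by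
      calc u * h * Q.repGL w * v = t * (u * h * Q.repGL w * v) * t⁻¹ := by
            rw [← hgt.eq, mul_inv_cancel_right]
        _ = _ := by group
    obtain ⟨-, h1, h2, h3⟩ := Q.unique_GL hu hU hh hd hv hv' e
    refine ⟨⟨⟨u, hu, ?_⟩, ⟨h, hh⟩, ⟨w, ?_⟩, ⟨v, hv, ?_⟩⟩, rfl⟩
    · exact eq_mul_inv_iff_mul_eq.1 h1
    · show Q.repGL w * t * (Q.repGL w)⁻¹ = t
      rw [Q.diag_comm ht hh, mul_assoc] at h2
      calc Q.repGL w * t * (Q.repGL w)⁻¹ = (Q.repGL w * t⁻¹ * (Q.repGL w)⁻¹)⁻¹ := by group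
        _ = t := by
          rw [inv_eq_iff_eq_inv, eq_comm, ← mul_left_cancel_iff (a := t), mul_inv_cancel]
          exact mul_left_cancel (a := h) (by rw [mul_one]; exact h2)
    · exact eq_mul_inv_iff_mul_eq.1 h3

end Cfsg.Agent.H60.E65
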